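import Mathlib.GroupTheory.PGroup
import Mathlib.GroupTheory.QuotientGroup.Basic
import Mathlib.GroupTheory.Solvable
import Mathlib.GroupTheory.Nilpotent
import Mathlib.GroupTheory.Sylow

/-!
# Automorphisms of order dividing `p` with few fixed points

The hypothesis passes to invariant subgroups and to the quotients by invariant normal subgroups.
-/

set_option autoImplicit false

namespace Cfsg.Agent.FewFixed

universe u

variable {G : Type u} [Group G]

/-- `α ^ p = 1` and `α` fixes at most `p ^ n` elements. -/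
structure Few (p n : ℕ) (α : MulAut G) : Prop where
  pow_eq : α ^ p = 1
  card_le : Nat.card {g : G // α g = g} ≤ p ^ n

/-- The restriction of an automorphism to an invariant subgroup. -/
def res (α : MulAut G) (H : Subgroup G) (h : H.map α.toMonoidHom = H) : MulAut H :=
  (α.subgroupMap H).trans (MulEquiv.subgroupCongr h)

theorem res_coe (α : MulAut G) (H : Subgroup G) (h : H.map α.toMonoidHom = H) (x : H) :
    ((res α H h x : H) : G) = α (x : G) := rfl

theorem res_pow_coe (α : MulAut G) (H : Subgroup G) (h : H.map α.toMonoidHom = H) (k : ℕ) (x : H) :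
    (((res α H h ^ k) x : H) : G) = (α ^ k) (x : G) := by
  induction k generalizing x with
  | zero => rfl
  | succ k ih => rw [pow_succ, pow_succ, MulAut.mul_apply, MulAut.mul_apply, ih, res_coe]

/-- The automorphism induced on a quotient. -/
def quot (α : MulAut G) (N : Subgroup G) [N.Normal] (h : N.map α.toMonoidHom = N) : MulAut (G ⧸ N) :=
  QuotientGroup.congr N N α h

theorem quot_mk (α : MulAut G) (N : Subgroup G) [N.Normal] (h : N.map α.toMonoidHom = N) (x : G) :
    quot α N h (QuotientGroup.mk x) = QuotientGroup.mk (α x) := rfl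

theorem quot_pow_mk (α : MulAut G) (N : Subgroup G) [N.Normal] (h : N.map α.toMonoidHom = N)
    (k : ℕ) (x : G) : (quot α N h ^ k) (QuotientGroup.mk x) = QuotientGroup.mk ((α ^ k) x) := by
  induction k generalizing x with
  | zero => rfl
  | succ k ih => rw [pow_succ, pow_succ, MulAut.mul_apply, MulAut.mul_apply, quot_mk, ih]

theorem map_eq_of_mapsTo [Finite G] {α : MulAut G} {H : Subgroup G} (h : ∀ x ∈ H, α x ∈ H) :
    H.map α.toMonoidHom = H := by
  refine Subgroup.eq_of_le_of_card_ge ?_ ?_
  · rintro y ⟨x, hx, rfl⟩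
    exact h x hx
  · rw [Subgroup.card_map_of_injective (f := α.toMonoidHom) α.injective]

theorem mem_of_map_eq {α : MulAut G} {H : Subgroup G} (h : H.map α.toMonoidHom = H) {x : G}
    (hx : x ∈ H) : α x ∈ H :=
  h.le ⟨x, hx, rfl⟩

theorem few_res [Finite G] {p n : ℕ} {α : MulAut G} (hf : Few p n α) (H : Subgroup G)
    (h : H.map α.toMonoidHom = H) : Few p n (res α H h) := by
  refine ⟨MulEquiv.ext fun x => Subtype.ext ?_, le_trans ?_ hf.card_le⟩
  · rw [res_pow_coe, hf.pow_eq]
    rfl
  · refine Nat.card_le_card_of_injective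
      (fun x => (⟨((x : H) : G), congrArg Subtype.val x.2⟩ : {g : G // α g = g})) fun a b hab => ?_
    exact Subtype.ext (Subtype.ext (congrArg (fun z : {g : G // α g = g} => (z : G)) hab))

theorem few_quot [Finite G] {p n : ℕ} {α : MulAut G} (hf : Few p n α) (N : Subgroup G) [N.Normal]
    (h : N.map α.toMonoidHom = N) : Few p n (quot α N h) := by
  refine ⟨MulEquiv.ext fun x => ?_, ?_⟩
  · induction x using QuotientGroup.induction_on with
    | _ z => rw [quot_pow_mk, hf.pow_eq]; rfl
  classical
  set K : Set G := {g | g⁻¹ * α g ∈ N}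
  have hK : ∀ q : {q : G ⧸ N // quot α N h q = q}, ∀ m : N, q.1.out * (m : G) ∈ K := by
    intro q m
    have e : QuotientGroup.mk (α q.1.out) = (QuotientGroup.mk q.1.out : G ⧸ N) := by
      have := q.2
      rw [← QuotientGroup.out_eq' q.1, quot_mk] at this
      exact this
    have e' : (q.1.out)⁻¹ * α q.1.out ∈ N := QuotientGroup.eq.1 e.symm
    show (q.1.out * (m : G))⁻¹ * α (q.1.out * (m : G)) ∈ N
    rw [map_mul, show (q.1.out * (m : G))⁻¹ * (α q.1.out * α (m : G)) =
      (m : G)⁻¹ * ((q.1.out)⁻¹ * α q.1.out) * α (m : G) by group]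
    exact N.mul_mem (N.mul_mem (N.inv_mem m.2) e') (mem_of_map_eq h m.2)
  have h1 : Nat.card {q : G ⧸ N // quot α N h q = q} * Nat.card N ≤ Nat.card K := by
    rw [← Nat.card_prod]
    refine Nat.card_le_card_of_injective (fun a => (⟨a.1.1.out * (a.2 : G), hK a.1 a.2⟩ : K))
      fun a b hab => ?_
    have hab' : a.1.1.out * (a.2 : G) = b.1.1.out * (b.2 : G) := congrArg Subtype.val hab
    have hq : a.1 = b.1 := by
      refine Subtype.ext ?_
      have e := congrArg (fun z : G => (QuotientGroup.mk z : G ⧸ N)) hab'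
      simp only [QuotientGroup.mk_mul_of_mem _ a.2.2, QuotientGroup.mk_mul_of_mem _ b.2.2,
        QuotientGroup.out_eq'] at e
      exact e
    refine Prod.ext hq (Subtype.ext ?_)
    rw [hq] at hab'
    exact mul_left_cancel hab'
  -- the fibres of `g ↦ g⁻¹ α g` are cosets of the fixed points
  have h2 : Nat.card K ≤ Nat.card N * Nat.card {g : G // α g = g} := by
    let r : N → G := fun m => if hm : ∃ g : G, g⁻¹ * α g = (m : G) then hm.choose else 1
    have hr : ∀ g : K, (r ⟨(g : G)⁻¹ * α (g : G), g.2⟩)⁻¹ * α (r ⟨(g : G)⁻¹ * α (g : G), g.2⟩) =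
        (g : G)⁻¹ * α (g : G) := by
      intro g
      have hex : ∃ z : G, z⁻¹ * α z = ((⟨(g : G)⁻¹ * α (g : G), g.2⟩ : N) : G) := ⟨g, rfl⟩
      simp only [r, dif_pos hex]
      exact hex.choose_spec
    have hfix : ∀ g : K, α ((g : G) * (r ⟨(g : G)⁻¹ * α (g : G), g.2⟩)⁻¹) =
        (g : G) * (r ⟨(g : G)⁻¹ * α (g : G), g.2⟩)⁻¹ := by
      intro g
      have e := hr g
      generalize r ⟨(g : G)⁻¹ * α (g : G), g.2⟩ = z at e ⊢
      rw [map_mul, map_inv, show α z = z * ((g : G)⁻¹ * α (g : G)) by rw [← e]; group]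
      group
    rw [← Nat.card_prod]
    refine Nat.card_le_card_of_injective (fun g : K =>
      ((⟨(g : G)⁻¹ * α (g : G), g.2⟩ : N), (⟨_, hfix g⟩ : {g : G // α g = g}))) fun a b hab => ?_
    have e1 := congrArg Prod.fst hab
    have e2 : (a : G) * (r ⟨(a : G)⁻¹ * α (a : G), a.2⟩)⁻¹ =
        (b : G) * (r ⟨(b : G)⁻¹ * α (b : G), b.2⟩)⁻¹ := congrArg (fun z => (z.2 : G)) hab
    simp only at e1
    rw [e1] at e2
    exact Subtype.ext (mul_right_cancel e2)
  have h3 : Nat.card {q : G ⧸ N // quot α N h q = q} * Nat.card N ≤ p ^ n * Nat.card N := by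
    refine h1.trans (h2.trans ?_)
    rw [mul_comm]
    exact Nat.mul_le_mul_right _ hf.card_le
  exact Nat.le_of_mul_le_mul_right h3 Nat.card_pos

/-- In a `p`-group every maximal subgroup is normal and contains the `p`-th powers. -/
theorem pow_mem_of_coatom [Finite G] {p : ℕ} [hp : Fact p.Prime] (hG : IsPGroup p G)
    {M : Subgroup G} (hM : IsCoatom M) (x : G) : x ^ p ∈ M := by
  haveI := hG.isNilpotent
  haveI : M.Normal := Subgroup.NormalizerCondition.normal_of_coatom M Group.normalizerCondition_of_isNilpotent hM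
  have hq : IsPGroup p (G ⧸ M) := hG.to_quotient M
  have hne : Nontrivial (G ⧸ M) := QuotientGroup.nontrivial_iff.2 hM.1
  obtain ⟨k, hk, hk'⟩ := hq.nontrivial_iff_card.1 hne
  obtain ⟨y, hy⟩ := exists_prime_orderOf_dvd_card' (G := G ⧸ M) p (hk' ▸ dvd_pow_self p hk.ne')
  have htop : Subgroup.zpowers y = ⊤ := by
    have hle : M ≤ (Subgroup.zpowers y).comap (QuotientGroup.mk' M) := by
      intro z hz
      rw [Subgroup.mem_comap, QuotientGroup.mk'_apply, (QuotientGroup.eq_one_iff z).2 hz]
      exact one_mem _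
    rcases eq_or_lt_of_le hle with e | e
    · exfalso
      obtain ⟨z, rfl⟩ := QuotientGroup.mk'_surjective M y
      have hz : z ∈ M := by rw [e]; exact Subgroup.mem_zpowers _
      rw [QuotientGroup.mk'_apply, (QuotientGroup.eq_one_iff z).2 hz, orderOf_one] at hy
      exact hp.out.ne_one hy.symm
    · have h1 := hM.2 _ e
      rw [← Subgroup.comap_top (QuotientGroup.mk' M)] at h1
      exact Subgroup.comap_injective (QuotientGroup.mk'_surjective M) h1
  rw [← QuotientGroup.eq_one_iff, QuotientGroup.mk_pow]
  have : Nat.card (G ⧸ M) = p := by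
    rw [← Subgroup.card_top, ← htop, Nat.card_zpowers, hy]
  conv_lhs => rw [← this]
  exact pow_card_eq_one'

/-- In a `p`-group the subgroup generated by the `p`-th powers is never supplemented properly. -/
theorem eq_top_of_sup_powers [Finite G] {p : ℕ} [Fact p.Prime] (hG : IsPGroup p G) {H Q : Subgroup G}
    (hQ : Q ≤ Subgroup.closure {y : G | ∃ x, y = x ^ p}) (h : H ⊔ Q = ⊤) : H = ⊤ := by
  by_contra hH
  obtain ⟨M, hM, hHM⟩ := (eq_top_or_exists_le_coatom H).resolve_left hH
  refine hM.1 (top_le_iff.1 (h ▸ sup_le hHM (hQ.trans ((Subgroup.closure_le _).2 ?_))))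
  rintro _ ⟨x, rfl⟩
  exact pow_mem_of_coatom hG hM x

/-- If the derived series of a subgroup is traced, the lengths add. -/
theorem derived_add {N : Subgroup G} {a b : ℕ} (ha : derivedSeries G a ≤ N)
    (hb : derivedSeries N b = ⊥) : derivedSeries G (a + b) = ⊥ := by
  have h : ∀ i, derivedSeries G (a + i) ≤ (derivedSeries N i).map N.subtype := by
    intro i
    induction i with
    | zero =>
      rw [derivedSeries_zero, ← MonoidHom.range_eq_map, Subgroup.range_subtype]
      exact ha
    | succ i ih =>
      rw [← add_assoc, derivedSeries_succ, derivedSeries_succ, Subgroup.map_commutator]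
      exact Subgroup.commutator_mono ih ih
  have := h b
  rwa [hb, Subgroup.map_bot, le_bot_iff] at this

/-- The derived series of a quotient. -/
theorem derived_le_of_quot {N : Subgroup G} [N.Normal] {a : ℕ}
    (ha : derivedSeries (G ⧸ N) a = ⊥) : derivedSeries G a ≤ N := by
  rw [← map_derivedSeries_eq (QuotientGroup.mk'_surjective N) a, Subgroup.map_eq_bot_iff,
    QuotientGroup.ker_mk'] at ha
  exact ha

/-- The derived length of a solvable group is at most its order. -/
theorem derivedSeries_card [Finite G] [Group.IsSolvable G] {m : ℕ} (hm : Nat.card G ≤ m + 1) :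
    derivedSeries G m = ⊥ := by
  have h : ∀ k, derivedSeries G k = ⊥ ∨ Nat.card (derivedSeries G k) + k ≤ Nat.card G := by
    intro k
    induction k with
    | zero => exact Or.inr (by rw [derivedSeries_zero, Subgroup.card_top, add_zero])
    | succ k ih =>
      rcases ih with e | e
      · refine Or.inl ?_
        rw [derivedSeries_succ, e, Subgroup.commutator_bot_left]
      · by_cases hb : derivedSeries G k = ⊥
        · exact Or.inl (by rw [derivedSeries_succ, hb, Subgroup.commutator_bot_left])
        · refine Or.inr ?_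
          have hlt := Group.IsSolvable.commutator_lt_of_ne_bot hb
          have hlt' : Nat.card (derivedSeries G (k + 1)) < Nat.card (derivedSeries G k) := by
            by_contra hcon
            exact hlt.ne (Subgroup.eq_of_le_of_card_ge hlt.le (not_lt.1 hcon))
          omega
  rcases h m with e | e
  · exact e
  · exact (Subgroup.eq_bot_iff_card _).2 (by have := Nat.card_pos (α := derivedSeries G m); omega)

/-- A monotone form of vanishing. -/
theorem derived_bot_mono {a b : ℕ} (hab : a ≤ b) (ha : derivedSeries G a = ⊥) :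
    derivedSeries G b = ⊥ :=
  le_bot_iff.1 ((derivedSeries_antitone G hab).trans ha.le)

end Cfsg.Agent.FewFixed
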