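import Cfsg.Agent.Lib.LieFpf.Fpf
import Cfsg.Agent.Lib.FewFixed.Basic

/-!
# A layer of bounded exponent

For an automorphism of order dividing `p` with at most `p ^ n` fixed points, one factor of the
lower central series, of index depending only on `p`, has exponent bounded in terms of `p` and `n`.
-/

set_option autoImplicit false
set_option linter.unusedSectionVars false

namespace Cfsg.Agent.FewFixed

open scoped commutatorElement DirectSum TensorProduct
open Cfsg.Agent.LieFpf

universe u

/-- The bracket, through the Lie ring structure. -/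
noncomputable local instance (priority := 10000) fewBracket {p : ℕ} {G : Type u} [Group G] :
    Bracket (TT p G) (TT p G) :=
  (lieRingSelfModule (L := TT p G)).toBracket

/-- The degree of nilpotency for fixed-point-free automorphisms of order `p`. -/
def cls (p : ℕ) : ℕ := LieFpf.bound p (2 ^ (p - 1) - 1)

/-- The exponent bound. -/
def expo (p n : ℕ) : ℕ := (n + 2) * (cls p + 1)

variable {G : Type u} [Group G] [Finite G] {p n : ℕ} [hp : Fact p.Prime] {α : MulAut G}
  (hG : IsPGroup p G) (hf : Few p n α)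

/-- The norm of a class. -/
noncomputable def nrm (p : ℕ) (α : MulAut G) (g : G) : G :=
  ((List.range p).map fun k => (α ^ k) g).prod

theorem iota_list_prod {c : ℕ} (l : List G) (hl : ∀ x ∈ l, x ∈ lcs G c) :
    l.prod ∈ lcs G c ∧ iota c l.prod = (l.map (iota c)).sum := by
  induction l with
  | nil => exact ⟨one_mem _, by simp [iota_one]⟩
  | cons a l ih =>
    obtain ⟨h1, h2⟩ := ih fun x hx => hl x (List.mem_cons_of_mem _ hx)
    have ha := hl a List.mem_cons_self
    refine ⟨by rw [List.prod_cons]; exact mul_mem ha h1, ?_⟩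
    rw [List.prod_cons, iota_mul ha h1, h2, List.map_cons, List.sum_cons]

include hG hf

theorem smul_sum_aL (u : LL G) : p ^ n • ∑ k ∈ Finset.range p, (aL α ^ k) u = 0 := by
  induction u using induction_iota with
  | h0 => simp
  | hadd a b ha hb => simp only [map_add, Finset.sum_add_distrib, smul_add, ha, hb, add_zero]
  | h1 c g hg =>
    obtain ⟨hw, hw'⟩ := iota_list_prod (c := c) ((List.range p).map fun k => (α ^ k) g) (by
      intro x hx
      obtain ⟨k, -, rfl⟩ := List.mem_map.1 hx
      exact LieFpf.pow_mem_lcs α k hg)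
    have hsum : ∑ k ∈ Finset.range p, (aL α ^ k) (iota c g) = iota c (nrm p α g) := by
      rw [show nrm p α g = ((List.range p).map fun k => (α ^ k) g).prod from rfl, hw', List.map_map,
        Finset.sum_congr rfl fun k _ => aL_pow_iota α k hg]
      rfl
    rw [hsum]
    set w := nrm p α g with hwdef
    have hwc : w ∈ lcs G c := hw
    -- the class of `w` is fixed
    have hinv : (lcs G (c + 1)).map α.toMonoidHom = lcs G (c + 1) :=
      map_eq_of_mapsTo fun x hx => map_mem_lcs α hx
    have hfix : iota c (α w) = iota c w := by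
      rw [← aL_iota α hwc, ← hsum, map_sum]
      have e : ∀ k, aL α ((aL α ^ k) (iota c g)) = (aL α ^ (k + 1)) (iota c g) := fun k => by
        rw [pow_succ', Module.End.mul_apply]
      simp only [e]
      have h1 := Finset.sum_range_succ (fun k => (aL α ^ k) (iota c g)) p
      have h2 := Finset.sum_range_succ' (fun k => (aL α ^ k) (iota c g)) p
      have h3 : (aL α ^ p) (iota c g) = (aL α ^ 0) (iota c g) := by
        rw [aL_pow_iota α p hg, aL_pow_iota α 0 hg, hf.pow_eq, pow_zero]
      rw [h1, h3] at h2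
      exact (add_right_cancel h2).symm
    have hmk : w⁻¹ * α w ∈ lcs G (c + 1) := by
      rw [← iota_eq_zero_iff (mul_mem (inv_mem hwc) (map_mem_lcs α hwc)),
        iota_mul (inv_mem hwc) (map_mem_lcs α hwc), iota_inv hwc, hfix, neg_add_cancel]
    set q : G ⧸ lcs G (c + 1) := QuotientGroup.mk w with hq
    have hqfix : quot α (lcs G (c + 1)) hinv q = q := by
      rw [hq, quot_mk]
      exact (QuotientGroup.eq.2 hmk).symm
    have hle : Nat.card (Subgroup.zpowers q) ≤ p ^ n := by
      refine le_trans ?_ (few_quot hf (lcs G (c + 1)) hinv).card_le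
      refine Nat.card_le_card_of_injective (fun x => (⟨(x : G ⧸ lcs G (c + 1)), ?_⟩ :
        {v : G ⧸ lcs G (c + 1) // quot α (lcs G (c + 1)) hinv v = v})) fun a b hab => ?_
      · obtain ⟨i, hi⟩ := Subgroup.mem_zpowers_iff.1 x.2
        rw [← hi, map_zpow, hqfix]
      · exact Subtype.ext (congrArg (fun z : {v : G ⧸ lcs G (c + 1) // quot α (lcs G (c + 1)) hinv v = v} =>
          (z : G ⧸ lcs G (c + 1))) hab)
    obtain ⟨j, hj⟩ := IsPGroup.iff_orderOf.1 (hG.to_quotient (lcs G (c + 1))) q
    rw [Nat.card_zpowers, hj] at hle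
    have hjn : j ≤ n := (Nat.pow_le_pow_iff_right hp.out.one_lt).1 hle
    rw [← iota_pow hwc, iota_eq_zero_iff (pow_mem hwc _), ← QuotientGroup.eq_one_iff,
      QuotientGroup.mk_pow, ← hq, ← orderOf_dvd_iff_pow_eq_one, hj]
    exact pow_dvd_pow p hjn

theorem smul_sum_beta (v : TT p G) : p ^ n • ∑ k ∈ Finset.range p, (beta p α ^ k) v = 0 := by
  induction v using TensorProduct.induction_on with
  | zero => simp
  | add a b ha hb => simp only [map_add, Finset.sum_add_distrib, smul_add, ha, hb, add_zero]
  | tmul s x =>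
    simp only [beta_pow_tmul, ← TensorProduct.tmul_sum]
    refine (map_nsmul (TensorProduct.mk ℤ (Ap p) (LL G) s) (p ^ n) _).symm.trans ?_
    rw [smul_sum_aL hG hf]
    exact TensorProduct.tmul_zero _ _

omit hG in
theorem beta_pow_p' (v : TT p G) : (beta p α ^ p) v = v := by
  induction v using TensorProduct.induction_on with
  | zero => simp
  | add a b ha hb => simp only [map_add, ha, hb]
  | tmul s x =>
    rw [beta_pow_tmul]
    congr 1
    induction x using induction_iota with
    | h0 => simp
    | hadd a b ha hb => simp only [map_add, ha, hb]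
    | h1 c g hg => rw [aL_pow_iota α p hg, hf.pow_eq]; rfl

omit hG in
theorem smul_mem_iSup_eig (v : TT p G) : p • v ∈ ⨆ j, eig p α j := by
  let e : ZMod p → TT p G := fun j => ∑ i : ZMod p, chi p (-(j * i)) • (beta p α ^ i.val) v
  have he : ∀ j, e j ∈ eig p α j := fun j => by
    rw [mem_eig]
    simp only [e, map_sum, map_smul, Finset.smul_sum, smul_smul]
    have hs : ∀ i : ZMod p,
        beta p α ((beta p α ^ i.val) v) = (beta p α ^ (i + 1).val) v := fun i => by
      rw [← Module.End.mul_apply, ← pow_succ', ZMod.val_add, ZMod.val_one]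
      conv_lhs => rw [← Nat.div_add_mod (i.val + 1) p]
      rw [pow_add, pow_mul, Module.End.mul_apply]
      generalize (beta p α ^ ((i.val + 1) % p)) v = w
      generalize (i.val + 1) / p = q
      induction q with
      | zero => rfl
      | succ q ih => rw [pow_succ, Module.End.mul_apply, beta_pow_p' hf, ih]
    simp only [hs]
    refine Fintype.sum_equiv (Equiv.addRight (1 : ZMod p)) _ _ fun i => ?_
    rw [Equiv.coe_addRight, ← chi_add]
    congr 2
    ring
  have hsum : ∑ j, e j = p • v := by
    simp only [e]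
    rw [Finset.sum_comm]
    simp only [← Finset.sum_smul]
    rw [Finset.sum_eq_single (0 : ZMod p)]
    · simp only [mul_zero, neg_zero, chi_zero, Finset.sum_const, Finset.card_univ, ZMod.card,
        ZMod.val_zero, pow_zero, Module.End.one_apply]
      rw [smul_assoc, one_smul]
    · intro i _ hi
      rw [Fintype.sum_equiv ((Equiv.mulRight₀ i hi).trans (Equiv.neg _))
        (fun j => chi p (-(j * i))) (chi p) fun j => rfl, sum_chi, zero_smul]
    · exact fun h => absurd (Finset.mem_univ _) h
  rw [← hsum]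
  exact sum_mem fun j _ => AddSubgroup.mem_iSup_of_mem j (he j)

omit hG hf in
/-- The scaled eigen components. -/
noncomputable def scaled (p n : ℕ) [Fact p.Prime] (α : MulAut G) : Fam (TT p G) p := fun j =>
  (eig p α j).map (nsmulAddMonoidHom (α := TT p G) (p ^ (n + 1)))

omit hG hf in
theorem mem_scaled {j : ZMod p} {v : TT p G} :
    v ∈ scaled p n α j ↔ ∃ x ∈ eig p α j, p ^ (n + 1) • x = v := by
  rw [scaled, AddSubgroup.mem_map]
  rfl

theorem scaled_closed : Closed (scaled p n α) := by
  refine ⟨fun {a b x y} hx hy => ?_, fun v hv => ?_⟩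
  · rw [mem_scaled] at hx hy ⊢
    obtain ⟨x', hx', rfl⟩ := hx
    obtain ⟨y', hy', rfl⟩ := hy
    refine ⟨⁅x', p ^ (n + 1) • y'⁆, ?_, (nsmul_lie _ _ _).symm⟩
    have hy'' : p ^ (n + 1) • y' ∈ eig p α b := nsmul_mem hy' _
    rw [mem_eig] at hx' hy'' ⊢
    generalize p ^ (n + 1) • y' = z at hy'' ⊢
    rw [beta_lie, hx', hy'']
    refine ((smul_lie (chi p a) x' (chi p b • z)).trans
      (congrArg (chi p a • ·) (lie_smul (chi p b) x' z))).trans ?_
    show chi p a • chi p b • ⁅x', z⁆ = _
    rw [smul_smul, chi_add]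
  · rw [mem_scaled] at hv
    obtain ⟨x, hx, rfl⟩ := hv
    rw [mem_eig, chi_zero, one_smul] at hx
    have hk : ∀ k, (beta p α ^ k) x = x := fun k => by
      induction k with
      | zero => rfl
      | succ k ih => rw [pow_succ, Module.End.mul_apply, hx, ih]
    have h := smul_sum_beta hG hf x
    simp only [hk, Finset.sum_const, Finset.card_range] at h
    rw [pow_succ', mul_nsmul, h]

omit hG in
theorem smul_mem_scaled (v : TT p G) : p ^ (n + 2) • v ∈ ⨆ j, scaled p n α j := by
  have h := AddSubgroup.mem_map_of_mem (nsmulAddMonoidHom (α := TT p G) (p ^ (n + 1)))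
    (smul_mem_iSup_eig hf v)
  rw [AddSubgroup.map_iSup] at h
  rw [pow_succ', mul_nsmul]
  exact h

omit hG in
theorem tmul_iota_mem_scaled : ∀ (c : ℕ) (g : G), g ∈ lcs G c →
    p ^ ((n + 2) * (c + 1)) • ((1 : Ap p) ⊗ₜ[ℤ] iota c g) ∈ ⨆ a, gam (scaled p n α) c a := by
  intro c
  induction c with
  | zero => intro g _; rw [zero_add, mul_one]; exact smul_mem_scaled hf _
  | succ c ih =>
    intro g hg
    rw [Subgroup.mem_lowerCentralSeries_succ_iff] at hg
    induction hg using Subgroup.closure_induction with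
    | one => rw [iota_one, TensorProduct.tmul_zero, smul_zero]; exact zero_mem _
    | mul x y hx hy ihx ihy =>
      rw [iota_mul hx hy, TensorProduct.tmul_add, smul_add]; exact add_mem ihx ihy
    | inv x hx ihx =>
      rw [iota_inv hx, TensorProduct.tmul_neg, smul_neg]; exact neg_mem ihx
    | mem x hx =>
      obtain ⟨a, ha, b, -, rfl⟩ := hx
      have hb : b ∈ lcs G 0 := Subgroup.mem_top b
      rw [show iota (c + 1) ⁅a, b⁆ = iota (c + 0 + 1) ⁅a, b⁆ from rfl, ← lie_iota ha hb,
        show (1 : Ap p) ⊗ₜ[ℤ] ⁅iota c a, iota 0 b⁆ =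
          ⁅(1 : Ap p) ⊗ₜ[ℤ] iota c a, (1 : Ap p) ⊗ₜ[ℤ] iota 0 b⁆ by
          rw [LieFpf.tmul_lie, one_mul],
        show (n + 2) * (c + 1 + 1) = (n + 2) * (c + 1) + (n + 2) by ring, pow_add,
        mul_nsmul, ← nsmul_lie, ← lie_nsmul]
      have hu := ih a ha
      have hv := smul_mem_scaled hf ((1 : Ap p) ⊗ₜ[ℤ] iota 0 b)
      generalize p ^ (n + 2) • ((1 : Ap p) ⊗ₜ[ℤ] iota 0 b) = v at hv ⊢
      generalize p ^ ((n + 2) * (c + 1)) • ((1 : Ap p) ⊗ₜ[ℤ] iota c a) = u at hu ⊢
      induction hu using AddSubgroup.iSup_induction' with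
      | hp d u hu =>
        induction hv using AddSubgroup.iSup_induction' with
        | hp e v hv => exact AddSubgroup.mem_iSup_of_mem (d + e) (mem_brk hu hv)
        | h1 => rw [lie_zero]; exact zero_mem _
        | hadd x y _ _ hx hy => rw [lie_add]; exact add_mem hx hy
      | h1 => rw [zero_lie]; exact zero_mem _
      | hadd x y _ _ hx hy => rw [add_lie]; exact add_mem hx hy

/-- The exponent of the layer of index `cls p`. -/
theorem pow_mem_lcs_succ {g : G} (hg : g ∈ lcs G (cls p)) :
    g ^ p ^ expo p n ∈ lcs G (cls p + 1) := by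
  rw [← iota_eq_zero_iff (pow_mem hg _), iota_pow hg]
  refine eq_zero_of_tmul p ?_
  rw [← TensorProduct.mk_apply, map_nsmul, TensorProduct.mk_apply]
  have h : (⨆ a, gam (scaled p n α) (cls p) a) ≤ ⊥ :=
    iSup_le fun a x hx => AddSubgroup.mem_bot.2 (gam_eq_zero (scaled_closed hG hf) hx)
  exact AddSubgroup.mem_bot.1 (h (tmul_iota_mem_scaled hf (cls p) g hg))

end Cfsg.Agent.FewFixed
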