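import Cfsg.Agent.Lib.FewFixed.Basic
import Cfsg.Agent.S3780
import Cfsg.Agent.Lib.Solvable.Structure
import Mathlib.Data.Fintype.Perm
import Mathlib.Algebra.Group.End

/-!
# Invariant sections of bounded exponent have bounded order
-/

set_option autoImplicit false
set_option linter.unusedSectionVars false

namespace Cfsg.Agent.FewFixed

universe u

/-- The order of an abelian group generated by few elements of bounded order. -/
theorem card_le_of_generators {A : Type u} [CommGroup A] [Finite A] {S : Finset A} {e : ℕ} (he : 0 < e)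
    (hS : Subgroup.closure (S : Set A) = ⊤) (hexp : ∀ a : A, a ^ e = 1) : Nat.card A ≤ e ^ S.card := by
  classical
  let f : (S → ZMod e) → A := fun v => ∏ s : S, (s : A) ^ (v s).val
  have hsurj : Function.Surjective f := by
    haveI : NeZero e := ⟨he.ne'⟩
    have hadd : ∀ v w, f (v + w) = f v * f w := fun v w => by
      simp only [f, ← Finset.prod_mul_distrib, ← pow_add, Pi.add_apply, ZMod.val_add]
      refine Finset.prod_congr rfl fun s _ => ?_
      exact (pow_eq_pow_mod _ (hexp _)).symm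
    let g : Multiplicative (S → ZMod e) →* A := MonoidHom.mk' (fun v => f (Multiplicative.toAdd v))
      fun v w => hadd _ _
    intro a
    have htop : g.range = ⊤ := by
      rw [eq_top_iff, ← hS, Subgroup.closure_le]
      intro s hs
      refine ⟨Multiplicative.ofAdd (Pi.single (⟨s, hs⟩ : S) (1 : ZMod e)), ?_⟩
      show f (Pi.single (⟨s, hs⟩ : S) (1 : ZMod e)) = s
      simp only [f]
      rw [Finset.prod_eq_single (⟨s, hs⟩ : S)]
      · rw [Pi.single_eq_same]
        rcases eq_or_lt_of_le (Nat.one_le_iff_ne_zero.2 he.ne') with h | h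
        · subst h
          have := hexp s
          rw [pow_one] at this
          simp [this]
        · haveI : Fact (1 < e) := ⟨h⟩
          rw [ZMod.val_one, pow_one]
      · intro t _ ht
        rw [Pi.single_eq_of_ne ht, ZMod.val_zero, pow_zero]
      · exact fun h => absurd (Finset.mem_univ _) h
    obtain ⟨v, hv⟩ := MonoidHom.mem_range.1 (htop ▸ Subgroup.mem_top a : a ∈ g.range)
    exact ⟨_, hv⟩
  haveI : NeZero e := ⟨he.ne'⟩
  refine (Nat.card_le_card_of_surjective f hsurj).trans (le_of_eq ?_)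
  simp [Nat.card_eq_fintype_card]

/-- The bound for abelian invariant sections of exponent dividing `p ^ k`. -/
def abBound (p n k : ℕ) : ℕ := p ^ (k * (p * n) + n)

/-- The bound for invariant sections of exponent dividing `p ^ k`. -/
def secBound (p n k : ℕ) : ℕ := abBound p n k * (abBound p n k).factorial

theorem card_abelian_le {p n k : ℕ} [hp : Fact p.Prime] {A : Type u} [CommGroup A] [Finite A]
    {α : MulAut A} (hA : IsPGroup p A) (hf : Few p n α) (hexp : ∀ a : A, a ^ p ^ k = 1) :
    Nat.card A ≤ abBound p n k := by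
  have hpos := hp.out.pos
  by_cases h1 : α = 1
  · refine le_trans ?_ (Nat.pow_le_pow_right hpos (Nat.le_add_left n (k * (p * n))))
    refine le_trans (le_of_eq ?_) hf.card_le
    exact (Nat.card_congr (Equiv.subtypeUnivEquiv fun a => by rw [h1]; rfl)).symm
  have hord : orderOf α = p := orderOf_eq_prime hf.pow_eq h1
  set C : Subgroup A :=
    { carrier := {a | α a = a}
      one_mem' := map_one α
      mul_mem' := fun {a b} (ha : α a = a) (hb : α b = b) => show α (a * b) = a * b by
        rw [map_mul, ha, hb]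
      inv_mem' := fun {a} (ha : α a = a) => show α a⁻¹ = a⁻¹ by rw [map_inv, ha] }
  obtain ⟨m, hm⟩ := IsPGroup.iff_card.1 (hA.to_subgroup C)
  have hm' : Nat.card {v : A // α v = v} = p ^ m := hm
  have hmn : m ≤ n := (Nat.pow_le_pow_iff_right hp.out.one_lt).1 (hm' ▸ hf.card_le)
  obtain ⟨S, hS, hgen⟩ := Cfsg.Agent.S3780.result hA α hord m hm'
  refine (card_le_of_generators (pow_pos hpos k) hgen hexp).trans ?_
  rw [abBound, ← pow_mul]
  refine Nat.pow_le_pow_right hpos ?_
  calc k * S.card ≤ k * (p * n) := Nat.mul_le_mul_left _ (hS.trans (Nat.mul_le_mul_left _ hmn))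
    _ ≤ _ := Nat.le_add_right _ _

/-- An invariant section of exponent dividing `p ^ k` has bounded order. -/
theorem card_le_secBound {p n k : ℕ} [hp : Fact p.Prime] {X : Type u} [Group X] [Finite X]
    {α : MulAut X} (hX : IsPGroup p X) (hf : Few p n α) (hexp : ∀ a : X, a ^ p ^ k = 1) :
    Nat.card X ≤ secBound p n k := by
  classical
  -- a maximal invariant abelian normal subgroup
  let 𝒜 : Set (Subgroup X) := {A | A.Normal ∧ (∀ x ∈ A, α x ∈ A) ∧ ∀ x ∈ A, ∀ y ∈ A, x * y = y * x}
  have hne : 𝒜.Nonempty := ⟨⊥, inferInstance, fun x hx => by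
    rw [Subgroup.mem_bot.1 hx, map_one]; exact one_mem _, fun x hx y hy => by
    rw [Subgroup.mem_bot.1 hx, Subgroup.mem_bot.1 hy]⟩
  obtain ⟨A, hAm, hmax⟩ := 𝒜.toFinite.exists_maximal hne
  obtain ⟨hAn, hAinv, hAab⟩ := hAm
  haveI := hAn
  have hAmap : A.map α.toMonoidHom = A := map_eq_of_mapsTo hAinv
  -- it is self-centralizing
  have hCA : Subgroup.centralizer (A : Set X) ≤ A := by
    by_contra hcon
    set C := Subgroup.centralizer (A : Set X) with hC
    haveI hCn : C.Normal := by
      refine ⟨fun c hc g => Subgroup.mem_centralizer_iff.2 fun a ha => ?_⟩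
      have h' := Subgroup.mem_centralizer_iff.1 hc (g⁻¹ * a * g⁻¹⁻¹) (hAn.conj_mem a ha g⁻¹)
      rw [inv_inv] at h'
      calc a * (g * c * g⁻¹) = g * (g⁻¹ * a * g * c) * g⁻¹ := by group
        _ = g * (c * (g⁻¹ * a * g)) * g⁻¹ := by rw [h']
        _ = g * c * g⁻¹ * a := by group
    have hCinv : ∀ x ∈ C, α x ∈ C := fun x hx => Subgroup.mem_centralizer_iff.2 fun a ha => by
      obtain ⟨b, hb, rfl⟩ : a ∈ A.map α.toMonoidHom := hAmap.symm ▸ ha
      show α b * α x = α x * α b
      rw [← map_mul, ← map_mul, Subgroup.mem_centralizer_iff.1 hx b hb]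
    set β := quot α A hAmap with hβ
    set W : Subgroup (X ⧸ A) := Subgroup.center (X ⧸ A) ⊓ C.map (QuotientGroup.mk' A) with hW
    haveI : (C.map (QuotientGroup.mk' A)).Normal :=
      hCn.map _ (QuotientGroup.mk'_surjective A)
    have hq : IsPGroup p (X ⧸ A) := hX.to_quotient A
    haveI := hq.isNilpotent
    have hWne : W ≠ ⊥ := by
      rw [hW, inf_comm]
      refine SolvStruct.inf_center_ne_bot (N := C.map (QuotientGroup.mk' A)) ?_
      rw [ne_eq, Subgroup.map_eq_bot_iff, QuotientGroup.ker_mk']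
      exact hcon
    have hWinv : ∀ w ∈ W, β w ∈ W := by
      rintro w ⟨hw1, ⟨x, hx, rfl⟩⟩
      refine ⟨?_, ⟨α x, hCinv x hx, rfl⟩⟩
      refine Subgroup.mem_center_iff.2 fun y => ?_
      obtain ⟨z, rfl⟩ := β.surjective y
      rw [← map_mul, ← map_mul, Subgroup.mem_center_iff.1 hw1 z]
    set δ : MulAut W := res β W (map_eq_of_mapsTo hWinv) with hδ
    have hfW : Few p n δ := few_res (few_quot hf A hAmap) W _
    have hP : IsPGroup p (Subgroup.zpowers δ) := fun ⟨g, hg⟩ => ⟨1, Subtype.ext (by
      obtain ⟨i, rfl⟩ := Subgroup.mem_zpowers_iff.1 hg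
      show (δ ^ i) ^ (p ^ 1) = 1
      rw [pow_one, ← zpow_natCast, ← zpow_mul, mul_comm, zpow_mul, zpow_natCast, hfW.pow_eq,
        one_zpow])⟩
    have hdvd : p ∣ Nat.card W := by
      obtain ⟨j, hj⟩ := IsPGroup.iff_card.1 (hq.to_subgroup W)
      rw [hj]
      refine dvd_pow_self p ?_
      rintro rfl
      exact hWne ((Subgroup.eq_bot_iff_card W).2 (by rw [hj, pow_zero]))
    have h1 : (1 : W) ∈ MulAction.fixedPoints (Subgroup.zpowers δ) W :=
      fun σ => map_one (σ : MulAut W)
    obtain ⟨w, hw, hwne⟩ := hP.exists_fixed_point_of_prime_dvd_card_of_fixed_point W hdvd h1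
    have hwfix : β (w : X ⧸ A) = (w : X ⧸ A) := congrArg Subtype.val (hw ⟨δ, Subgroup.mem_zpowers δ⟩)
    obtain ⟨hwz, x, hxC, hxw⟩ := w.2
    set B : Subgroup X := (Subgroup.zpowers (w : X ⧸ A)).comap (QuotientGroup.mk' A) with hB
    have hAB : A ≤ B := fun a ha => by
      rw [hB, Subgroup.mem_comap, QuotientGroup.mk'_apply, (QuotientGroup.eq_one_iff a).2 ha]
      exact one_mem _
    have hxB : x ∈ B := by rw [hB, Subgroup.mem_comap, hxw]; exact Subgroup.mem_zpowers _
    have hBmem : ∀ b ∈ B, ∃ i : ℤ, ∃ a ∈ A, b = x ^ i * a := by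
      intro b hb
      obtain ⟨i, hi⟩ := Subgroup.mem_zpowers_iff.1 (Subgroup.mem_comap.1 hb)
      refine ⟨i, (x ^ i)⁻¹ * b, ?_, by group⟩
      rw [← QuotientGroup.eq_one_iff]
      show QuotientGroup.mk' A ((x ^ i)⁻¹ * b) = 1
      rw [map_mul, map_inv, map_zpow, hxw, ← hi, inv_mul_cancel]
    have hBn : B.Normal := by
      refine ⟨fun b hb g => Subgroup.mem_comap.2 ?_⟩
      obtain ⟨i, hi⟩ := Subgroup.mem_zpowers_iff.1 (Subgroup.mem_comap.1 hb)
      rw [map_mul, map_mul, map_inv, ← hi, Subgroup.mem_center_iff.1 (zpow_mem (show (w : X ⧸ A) ∈ Subgroup.center (X ⧸ A) from hwz) i),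
        mul_inv_cancel_right]
      exact zpow_mem (Subgroup.mem_zpowers _) _
    have hBinv : ∀ b ∈ B, α b ∈ B := by
      intro b hb
      obtain ⟨i, hi⟩ := Subgroup.mem_zpowers_iff.1 (Subgroup.mem_comap.1 hb)
      rw [hB, Subgroup.mem_comap, Subgroup.mem_zpowers_iff]
      refine ⟨i, ?_⟩
      have e := congrArg β hi
      rw [map_zpow, hwfix] at e
      exact e
    have hBab : ∀ y ∈ B, ∀ z ∈ B, y * z = z * y := by
      intro y hy z hz
      obtain ⟨i, a, ha, rfl⟩ := hBmem y hy
      obtain ⟨j, b, hb, rfl⟩ := hBmem z hz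
      have hc : ∀ a ∈ A, ∀ l : ℤ, Commute (x ^ l) a := fun a ha l =>
        (Commute.zpow_left (Subgroup.mem_centralizer_iff.1 hxC a ha).symm l)
      exact ((((Commute.refl x).zpow_zpow i j).mul_right (hc b hb i))).mul_left
        (((hc a ha j).symm).mul_right (hAab a ha b hb))
    have hle : B ≤ A := hmax ⟨hBn, hBinv, hBab⟩ hAB
    refine hwne (Subtype.ext ?_)
    show (1 : X ⧸ A) = (w : X ⧸ A)
    rw [← hxw]
    exact ((QuotientGroup.eq_one_iff x).2 (hle hxB)).symm
  -- count
  letI : CommGroup A := { (inferInstance : Group A) with mul_comm := fun a b => Subtype.ext (hAab a a.2 b b.2) }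
  have hA1 : Nat.card A ≤ abBound p n k :=
    card_abelian_le (hX.to_subgroup A) (few_res hf A hAmap) fun a => Subtype.ext (hexp a)
  have hidx : A.index ≤ (abBound p n k).factorial := by
    let φ : X →* Equiv.Perm A :=
      (MulAut.toPerm A).comp (MulAut.conjNormal (H := A))
    have hker : φ.ker ≤ A := fun x hx => hCA (Subgroup.mem_centralizer_iff.2 fun a ha => by
      have e : ((MulAut.conjNormal x ⟨a, ha⟩ : A) : X) = a :=
        congrArg (fun σ : Equiv.Perm A => ((σ ⟨a, ha⟩ : A) : X)) (MonoidHom.mem_ker.1 hx)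
      rw [MulAut.conjNormal_apply] at e
      calc a * x = x * a * x⁻¹ * x := by rw [e]
        _ = x * a := by group)
    calc A.index ≤ φ.ker.index := Nat.le_of_dvd (Nat.pos_of_ne_zero Subgroup.index_ne_zero_of_finite)
          (Subgroup.index_dvd_of_le hker)
      _ ≤ Nat.card (Equiv.Perm A) := by
          rw [Subgroup.index_ker]
          exact Subgroup.card_le_card_group _
      _ = (Nat.card A).factorial := Nat.card_perm
      _ ≤ _ := Nat.factorial_le hA1
  rw [← A.card_mul_index]
  exact Nat.mul_le_mul hA1 hidx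

end Cfsg.Agent.FewFixed
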