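import Cfsg.Agent.Lib.FewFixed.LieBound
import Cfsg.Agent.Lib.FewFixed.Sections
import Cfsg.Agent.Lib.Solvable.Fitting

/-!
# The derived length of a solvable group with an automorphism of prime order with few fixed points
-/

set_option autoImplicit false
set_option linter.unusedSectionVars false

namespace Cfsg.Agent.FewFixed

open scoped commutatorElement
open Cfsg.Agent.LieFpf

universe u

variable {G : Type u} [Group G] [Finite G] {p n : ℕ} [hp : Fact p.Prime]

/-- A permutation of order dividing a prime `q` of a set of order prime to `q` fixes a point. -/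
theorem exists_fixed_of_maps {q : ℕ} [Fact q.Prime] {Y : Type u} [Finite Y] (S : Set Y)
    (f : Equiv.Perm Y) (hf : f ^ q = 1) (hS : ∀ x ∈ S, f x ∈ S) (hq : ¬ q ∣ Nat.card S) :
    ∃ x ∈ S, f x = x := by
  classical
  haveI := Fintype.ofFinite S
  let g : S → S := fun x => ⟨f x, hS x x.2⟩
  have hinj : Function.Injective g := fun a b h =>
    Subtype.ext (f.injective (congrArg Subtype.val h))
  let σ : Equiv.Perm S := Equiv.ofBijective g (Finite.injective_iff_bijective.1 hinj)
  have hσ : ∀ k (x : S), (((σ ^ k) x : S) : Y) = (f ^ k) x := by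
    intro k
    induction k with
    | zero => intro x; rfl
    | succ k ih =>
      intro x
      rw [pow_succ, pow_succ, Equiv.Perm.mul_apply, Equiv.Perm.mul_apply, ih]
      rfl
  obtain ⟨x, hx⟩ := Equiv.Perm.exists_fixed_point_of_prime (p := q) (n := 1)
    (by rwa [← Nat.card_eq_fintype_card]) (σ := σ)
    (Equiv.ext fun x => Subtype.ext (by rw [pow_one, hσ, hf]; rfl))
  exact ⟨x, x.2, congrArg Subtype.val hx⟩

/-- The subgroup generated by a set invariant under conjugation is normal. -/
theorem closure_normal {S : Set G} (h : ∀ x ∈ S, ∀ g : G, g * x * g⁻¹ ∈ S) :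
    (Subgroup.closure S).Normal := by
  refine ⟨fun x hx g => ?_⟩
  induction hx using Subgroup.closure_induction with
  | mem x hx => exact Subgroup.subset_closure (h x hx g)
  | one => simp
  | mul a b _ _ ha hb =>
    rw [show g * (a * b) * g⁻¹ = g * a * g⁻¹ * (g * b * g⁻¹) by group]
    exact mul_mem ha hb
  | inv a _ ha =>
    rw [show g * a⁻¹ * g⁻¹ = (g * a * g⁻¹)⁻¹ by group]
    exact inv_mem ha

/-- The subgroup generated by an invariant set is invariant. -/
theorem closure_map_eq (α : MulAut G) {S : Set G} (h : ∀ x ∈ S, α x ∈ S) :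
    (Subgroup.closure S).map α.toMonoidHom = Subgroup.closure S := by
  refine map_eq_of_mapsTo fun x hx => ?_
  induction hx using Subgroup.closure_induction with
  | mem x hx => exact Subgroup.subset_closure (h x hx)
  | one => simp
  | mul a b _ _ ha hb => rw [map_mul]; exact mul_mem ha hb
  | inv a _ ha => rw [map_inv]; exact inv_mem ha

/-- The bound for the derived length of a `p`-group. -/
def pgBound (p n : ℕ) : ℕ :=
  secBound p n (secBound p n (expo p n + 1)).factorial + (cls p + 1)

theorem derived_bot_of_pGroup (hG : IsPGroup p G) {α : MulAut G} (hf : Few p n α) :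
    derivedSeries G (pgBound p n) = ⊥ := by
  classical
  set c := cls p with hc
  set K := expo p n + 1 with hK
  set B := secBound p n K with hB
  set e := B.factorial with he
  haveI := hG.isNilpotent
  -- the subgroup of high powers
  set V : Subgroup G := Subgroup.closure {y | ∃ x, y = x ^ p ^ e} with hV
  haveI hVn : V.Normal := closure_normal fun y hy g => by
    obtain ⟨x, rfl⟩ := hy
    exact ⟨g * x * g⁻¹, conj_pow.symm⟩
  have hVmap : V.map α.toMonoidHom = V := closure_map_eq α fun y hy => by
    obtain ⟨x, rfl⟩ := hy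
    exact ⟨α x, map_pow α x _⟩
  have hDV : derivedSeries G (secBound p n e) ≤ V := by
    refine derived_le_of_quot (derivedSeries_card (Nat.le_succ_of_le ?_))
    refine card_le_secBound (hG.to_quotient V) (few_quot hf V hVmap) fun a => ?_
    induction a using QuotientGroup.induction_on with
    | _ z =>
      rw [← QuotientGroup.mk_pow, QuotientGroup.eq_one_iff]
      exact Subgroup.subset_closure ⟨z, rfl⟩
  refine derived_add hDV ?_
  -- a layer of the lower central series of `V`
  set N : Subgroup G := V.lowerCentralSeries c with hN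
  set M : Subgroup G := V.lowerCentralSeries (c + 1) with hM
  haveI hNn : N.Normal := Subgroup.lowerCentralSeries_normal V c
  have hNmap : N.map α.toMonoidHom = N := by rw [hN, Subgroup.map_lowerCentralSeries, hVmap]
  set Q : Subgroup G := Subgroup.closure {y | ∃ x ∈ N, y = x ^ p ^ K} with hQ
  haveI hQn : Q.Normal := closure_normal fun y hy g => by
    obtain ⟨x, hx, rfl⟩ := hy
    exact ⟨g * x * g⁻¹, hNn.conj_mem x hx g, conj_pow.symm⟩
  have hQmap : Q.map α.toMonoidHom = Q := closure_map_eq α fun y hy => by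
    obtain ⟨x, hx, rfl⟩ := hy
    exact ⟨α x, mem_of_map_eq hNmap hx, map_pow α x _⟩
  set Nb : Subgroup (G ⧸ Q) := N.map (QuotientGroup.mk' Q) with hNb
  haveI hNbn : Nb.Normal := hNn.map _ (QuotientGroup.mk'_surjective Q)
  have hNbmap : Nb.map (quot α Q hQmap).toMonoidHom = Nb := map_eq_of_mapsTo fun x hx => by
    obtain ⟨z, hz, rfl⟩ := hx
    exact ⟨α z, mem_of_map_eq hNmap hz, rfl⟩
  have hcard : Nat.card Nb ≤ B := by
    refine card_le_secBound ((hG.to_quotient Q).to_subgroup Nb)
      (few_res (few_quot hf Q hQmap) Nb hNbmap) fun a => Subtype.ext ?_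
    obtain ⟨z, hz, hza⟩ := a.2
    rw [SubgroupClass.coe_pow, ← hza, OneMemClass.coe_one, ← map_pow, QuotientGroup.mk'_apply,
      QuotientGroup.eq_one_iff]
    exact Subgroup.subset_closure ⟨z, hz, rfl⟩
  -- the high powers act trivially on it
  let φ : G →* Equiv.Perm Nb :=
    ((MulAut.toPerm Nb).comp (MulAut.conjNormal (H := Nb))).comp (QuotientGroup.mk' Q)
  have hact : ∀ x : G, φ (x ^ p ^ e) = 1 := by
    intro x
    obtain ⟨i, hi⟩ := IsPGroup.iff_orderOf.1 hG x
    obtain ⟨j, -, hj'⟩ := (Nat.dvd_prime_pow hp.out).1 (hi ▸ orderOf_map_dvd φ x)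
    have h1 : orderOf (φ x) ≤ e := by
      refine (Nat.le_of_dvd (Nat.factorial_pos _) ?_).trans (Nat.factorial_le hcard)
      rw [← Nat.card_perm]
      exact orderOf_dvd_natCard (φ x)
    rw [map_pow, ← orderOf_dvd_iff_pow_eq_one, hj']
    exact pow_dvd_pow p (((Nat.lt_pow_self hp.out.one_lt).le.trans (hj' ▸ h1)))
  have hVQ : M ≤ Q := by
    rw [hM, Subgroup.lowerCentralSeries_succ, ← hN, Subgroup.commutator_le]
    intro a ha v hv
    rw [← QuotientGroup.eq_one_iff, ← QuotientGroup.mk'_apply, map_commutatorElement,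
      commutatorElement_eq_one_iff_commute]
    have hker : V ≤ φ.ker := (Subgroup.closure_le _).2 fun y hy => by
      obtain ⟨x, rfl⟩ := hy
      exact MonoidHom.mem_ker.2 (hact x)
    have hv' := MonoidHom.mem_ker.1 (hker hv)
    have h2 : ((MulAut.conjNormal (QuotientGroup.mk' Q v) ⟨_, ⟨a, ha, rfl⟩⟩ : Nb) : G ⧸ Q) =
        QuotientGroup.mk' Q a :=
      congrArg (fun σ : Equiv.Perm Nb => ((σ ⟨_, ⟨a, ha, rfl⟩⟩ : Nb) : G ⧸ Q)) hv'
    rw [MulAut.conjNormal_apply, mul_inv_eq_iff_eq_mul] at h2
    exact h2.symm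
  -- the exponent of the layer
  have hpow : ∀ x ∈ N, x ^ p ^ expo p n ∈ M := by
    intro x hx
    rw [hN, ← Subgroup.top_subtype_lowerCentralSeries] at hx
    obtain ⟨x', hx', rfl⟩ := hx
    rw [← map_pow, hM, ← Subgroup.top_subtype_lowerCentralSeries]
    exact ⟨_, pow_mem_lcs_succ (hG.to_subgroup V) (few_res hf V hVmap) hx', rfl⟩
  have hQM : Q ≤ (Subgroup.closure {y : M | ∃ x, y = x ^ p}).map M.subtype := by
    rw [hQ, Subgroup.closure_le]
    rintro _ ⟨x, hx, rfl⟩
    refine ⟨⟨x ^ p ^ expo p n, hpow x hx⟩ ^ p, Subgroup.subset_closure ⟨_, rfl⟩, ?_⟩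
    rw [map_pow]
    show (x ^ p ^ expo p n) ^ p = _
    rw [← pow_mul, hK, pow_succ]
  have hMtop : (⊥ : Subgroup M) = ⊤ := by
    refine eq_top_of_sup_powers (p := p) (hG.to_subgroup M) le_rfl ?_
    rw [bot_sup_eq, eq_top_iff, ← Subgroup.map_le_map_iff_of_injective M.subtype_injective,
      ← MonoidHom.range_eq_map, Subgroup.range_subtype]
    exact hVQ.trans hQM
  have hMbot : M = ⊥ := by
    rw [← Subgroup.range_subtype M, MonoidHom.range_eq_map, ← hMtop, Subgroup.map_bot]
  refine le_bot_iff.1 ((Subgroup.derived_le_lower_central (c + 1)).trans ?_)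
  rw [← Subgroup.map_le_map_iff_of_injective V.subtype_injective,
    Subgroup.top_subtype_lowerCentralSeries, Subgroup.map_bot, ← hM, hMbot]

/-- Groups of order prime to `p`. -/
theorem derived_bot_of_coprime (m : ℕ) : ∀ (H : Type u) [Group H] [Finite H] [Group.IsSolvable H]
    (α : MulAut H), α ^ p = 1 → (Nat.card H).Coprime p → Nat.card {g : H // α g = g} ≤ m →
    derivedSeries H ((cls p + 1) * m) = ⊥ := by
  induction m with
  | zero =>
    intro H _ _ _ α _ _ hm
    haveI : Nonempty {g : H // α g = g} := ⟨⟨1, map_one α⟩⟩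
    exact absurd hm (not_le.2 Nat.card_pos)
  | succ m ih =>
    intro H _ _ _ α hα hco hm
    set D := derivedSeries H (cls p + 1) with hD
    haveI : D.Normal := derivedSeries_normal H _
    have hDmap : D.map α.toMonoidHom = D := map_derivedSeries_eq α.surjective _
    by_cases hC : ∀ g : H, α g = g → g ∈ D
    · -- the quotient is free of fixed points
      set β := quot α D hDmap with hβ
      have hfpf : ∀ q : H ⧸ D, β q = q → q = 1 := by
        intro q hq
        obtain ⟨z, rfl⟩ := QuotientGroup.mk_surjective q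
        obtain ⟨x, hx, hxfix⟩ := exists_fixed_of_maps (q := p) {x : H | (x : H ⧸ D) = z}
          (MulEquiv.toEquiv α) (by
            ext x
            have e : ∀ k, ((MulEquiv.toEquiv α : Equiv.Perm H) ^ k) x = (α ^ k) x := by
              intro k
              induction k generalizing x with
              | zero => rfl
              | succ k ih => rw [pow_succ, pow_succ, Equiv.Perm.mul_apply, MulAut.mul_apply, ih]; rfl
            rw [e, hα]; rfl)
          (fun x hx => by
            show ((α x : H) : H ⧸ D) = z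
            rw [← quot_mk α D hDmap, show ((x : H) : H ⧸ D) = z from hx]
            exact hq)
          (by
            have e : Nat.card {x : H | (x : H ⧸ D) = z} = Nat.card D := by
              refine Nat.card_congr
                { toFun := fun x => ⟨z⁻¹ * (x : H), QuotientGroup.eq.1 x.2.symm⟩
                  invFun := fun d => ⟨z * (d : H), QuotientGroup.mk_mul_of_mem z d.2⟩
                  left_inv := fun x => Subtype.ext (mul_inv_cancel_left z (x : H))
                  right_inv := fun d => Subtype.ext (inv_mul_cancel_left z (d : H)) }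
            rw [e]
            intro hdvd
            exact hp.out.ne_one (Nat.eq_one_of_dvd_coprimes hco
              (hdvd.trans (Subgroup.card_subgroup_dvd_card D)) dvd_rfl))
        rw [← show ((x : H) : H ⧸ D) = z from hx, QuotientGroup.eq_one_iff]
        exact hC x hxfix
      have hl : lcs (H ⧸ D) (cls p) = ⊥ := by
        by_cases h1 : β = 1
        · refine (Subgroup.eq_bot_iff_forall _).2 fun q _ => hfpf q ?_
          rw [h1]; rfl
        · have hord : orderOf β = p := orderOf_eq_prime (by
            refine MulEquiv.ext fun x => ?_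
            induction x using QuotientGroup.induction_on with
            | _ w => rw [quot_pow_mk, hα]; rfl) h1
          exact lcs_eq_bot_of_gam p β hfpf hord fun j x hx =>
            gam_eq_zero (eig_closed p β hfpf hord) hx
      have hle : derivedSeries H (cls p) ≤ D :=
        derived_le_of_quot (le_bot_iff.1 ((Subgroup.derived_le_lower_central _).trans hl.le))
      refine derived_bot_mono (a := cls p) ?_ ?_
      · rw [Nat.mul_succ]; omega
      · by_contra hne
        have hlt := Group.IsSolvable.commutator_lt_of_ne_bot hne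
        rw [← derivedSeries_succ] at hlt
        exact not_le_of_gt hlt hle
    · push_neg at hC
      obtain ⟨g, hg, hgD⟩ := hC
      have hlt : Nat.card {x : D // res α D hDmap x = x} < Nat.card {x : H // α x = x} := by
        refine lt_of_le_of_ne (Nat.card_le_card_of_injective
          (fun x => (⟨((x : D) : H), congrArg Subtype.val x.2⟩ : {x : H // α x = x}))
          fun a b hab => ?_) fun heq => ?_
        · exact Subtype.ext (Subtype.ext (congrArg (fun z : {x : H // α x = x} => (z : H)) hab))
        · have hinj : Function.Injective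
              (fun x : {x : D // res α D hDmap x = x} =>
                (⟨((x : D) : H), congrArg Subtype.val x.2⟩ : {x : H // α x = x})) := fun a b hab =>
            Subtype.ext (Subtype.ext (congrArg (fun z : {x : H // α x = x} => (z : H)) hab))
          obtain ⟨x, hx⟩ := (Nat.bijective_iff_injective_and_card _).2 ⟨hinj, heq⟩ |>.2 ⟨g, hg⟩
          have hxg : ((x : D) : H) = g := congrArg Subtype.val hx
          exact hgD (hxg ▸ (x : D).2)
      have h := ih D (res α D hDmap) (MulEquiv.ext fun x => Subtype.ext (by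
          rw [res_pow_coe, hα]; rfl))
        (hco.coprime_dvd_left (Subgroup.card_subgroup_dvd_card D)) (by omega)
      refine derived_bot_mono (Nat.le_of_eq ?_) (derived_add le_rfl h)
      rw [Nat.mul_succ, add_comm]

/-- The bound. -/
def totalBound (p n : ℕ) : ℕ :=
  (secBound p n 1).factorial + pgBound p n + (cls p + 1) * p ^ n

theorem derived_bot_of_solvable [Group.IsSolvable G] {α : MulAut G} (hf : Few p n α) :
    derivedSeries G (totalBound p n) = ⊥ := by
  classical
  set M := Cfsg.pPrimeCore p G with hM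
  haveI : M.Normal := FittingCores.pPrimeCore_normal p
  have hMmap : M.map α.toMonoidHom = M :=
    Subgroup.characteristic_iff_map_eq.1 (FittingCores.pPrimeCore_characteristic p) α
  refine derived_add (N := M) (derived_le_of_quot ?_)
    (derived_bot_of_coprime (p ^ n) M (res α M hMmap) (few_res hf M hMmap).pow_eq
      (FittingCores.pPrimeCore_coprime p) (few_res hf M hMmap).card_le)
  have hcore : Cfsg.pPrimeCore p (G ⧸ M) = ⊥ := FittingCores.pPrimeCore_quotient_eq_bot p M rfl
  have hfX := few_quot hf M hMmap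
  generalize quot α M hMmap = β at hfX
  set U := Cfsg.pCore p (G ⧸ M) with hU
  haveI hUn : U.Normal := FittingCores.pCore_normal p
  have hUmap : U.map β.toMonoidHom = U :=
    Subgroup.characteristic_iff_map_eq.1 (FittingCores.pCore_characteristic p) β
  have hUp : IsPGroup p U := FittingCores.pCore_isPGroup p
  refine derived_add (N := U) (derived_le_of_quot (derivedSeries_card ?_))
    (derived_bot_of_pGroup hUp (few_res hfX U hUmap))
  -- the index of the `p`-core
  set Q : Subgroup (G ⧸ M) := Subgroup.closure {y | ∃ x ∈ U, y = x ^ p} with hQ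
  haveI hQn : Q.Normal := closure_normal fun y hy g => by
    obtain ⟨x, hx, rfl⟩ := hy
    exact ⟨g * x * g⁻¹, hUn.conj_mem x hx g, conj_pow.symm⟩
  have hQmap : Q.map β.toMonoidHom = Q := closure_map_eq β fun y hy => by
    obtain ⟨x, hx, rfl⟩ := hy
    exact ⟨β x, mem_of_map_eq hUmap hx, map_pow β x _⟩
  have hQU : Q ≤ U := (Subgroup.closure_le _).2 fun y hy => by
    obtain ⟨x, hx, rfl⟩ := hy
    exact pow_mem hx p
  set Ub : Subgroup ((G ⧸ M) ⧸ Q) := U.map (QuotientGroup.mk' Q) with hUb
  haveI hUbn : Ub.Normal := hUn.map _ (QuotientGroup.mk'_surjective Q)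
  have hUbmap : Ub.map (quot β Q hQmap).toMonoidHom = Ub := map_eq_of_mapsTo fun x hx => by
    obtain ⟨z, hz, rfl⟩ := hx
    exact ⟨β z, mem_of_map_eq hUmap hz, rfl⟩
  have hcard : Nat.card Ub ≤ secBound p n 1 := by
    have hp' : IsPGroup p Ub := hUp.map _
    refine card_le_secBound hp' (few_res (few_quot hfX Q hQmap) Ub hUbmap) fun a => Subtype.ext ?_
    obtain ⟨z, hz, hza⟩ := a.2
    rw [SubgroupClass.coe_pow, ← hza, OneMemClass.coe_one, ← map_pow, QuotientGroup.mk'_apply,
      QuotientGroup.eq_one_iff, pow_one]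
    exact Subgroup.subset_closure ⟨z, hz, rfl⟩
  let φ : G ⧸ M →* Equiv.Perm Ub :=
    ((MulAut.toPerm Ub).comp (MulAut.conjNormal (H := Ub))).comp (QuotientGroup.mk' Q)
  have hker : IsPGroup p φ.ker := by
    rw [IsPGroup.iff_card]
    refine ⟨_, Nat.eq_prime_pow_of_unique_prime_dvd Nat.card_pos.ne' fun {q} hq hqdvd => ?_⟩
    by_contra hqp
    haveI := Fact.mk hq
    obtain ⟨y, hy⟩ := exists_prime_orderOf_dvd_card' q hqdvd
    have hy' := MonoidHom.mem_ker.1 y.2
    have hyq : ((y : G ⧸ M)) ^ q = 1 := by
      rw [← SubgroupClass.coe_pow, ← hy, pow_orderOf_eq_one, OneMemClass.coe_one]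
    -- it centralizes the `p`-core
    have hcl : ∀ u ∈ U, u * (y : G ⧸ M) = (y : G ⧸ M) * u := by
      suffices h : (Subgroup.centralizer {(y : G ⧸ M)}).subgroupOf U = ⊤ by
        intro u hu
        exact (Subgroup.mem_centralizer_iff.1
          (Subgroup.subgroupOf_eq_top.1 h hu) _ (Set.mem_singleton _)).symm
      refine eq_top_of_sup_powers (p := p) hUp (Q := Q.subgroupOf U) ?_ ?_
      · rw [← Subgroup.map_le_map_iff_of_injective U.subtype_injective,
          Subgroup.map_subgroupOf_eq_of_le hQU, hQ, Subgroup.closure_le]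
        rintro _ ⟨x, hx, rfl⟩
        exact ⟨(⟨x, hx⟩ : U) ^ p, Subgroup.subset_closure ⟨_, rfl⟩, rfl⟩
      · rw [eq_top_iff]
        rintro ⟨u, hu⟩ -
        obtain ⟨x, hx, hxfix⟩ := exists_fixed_of_maps (q := q)
          {x : G ⧸ M | (x : (G ⧸ M) ⧸ Q) = u} (MulAut.toPerm _ (MulAut.conj (y : G ⧸ M)))
          (by rw [← map_pow, ← map_pow, hyq, map_one, map_one])
          (fun x hx => by
            show ((((y : G ⧸ M) * x * (y : G ⧸ M)⁻¹ : G ⧸ M)) : (G ⧸ M) ⧸ Q) = u
            have e : ((MulAut.conjNormal (QuotientGroup.mk' Q (y : G ⧸ M))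
                ⟨_, ⟨u, hu, rfl⟩⟩ : Ub) : (G ⧸ M) ⧸ Q) = QuotientGroup.mk' Q u :=
              congrArg (fun σ : Equiv.Perm Ub => ((σ ⟨_, ⟨u, hu, rfl⟩⟩ : Ub) : (G ⧸ M) ⧸ Q)) hy'
            rw [MulAut.conjNormal_apply] at e
            rw [QuotientGroup.mk_mul, QuotientGroup.mk_mul, QuotientGroup.mk_inv,
              show (x : (G ⧸ M) ⧸ Q) = u from hx]
            exact e)
          (by
            have e : Nat.card {x : G ⧸ M | (x : (G ⧸ M) ⧸ Q) = u} = Nat.card Q := by
              refine Nat.card_congr
                { toFun := fun x => ⟨u⁻¹ * (x : G ⧸ M), QuotientGroup.eq.1 x.2.symm⟩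
                  invFun := fun d => ⟨u * (d : G ⧸ M), QuotientGroup.mk_mul_of_mem u d.2⟩
                  left_inv := fun x => Subtype.ext (mul_inv_cancel_left u (x : G ⧸ M))
                  right_inv := fun d => Subtype.ext (inv_mul_cancel_left u (d : G ⧸ M)) }
            rw [e]
            obtain ⟨j, hj⟩ := IsPGroup.iff_card.1 (hUp.to_le hQU)
            rw [hj]
            exact fun hd => hqp ((Nat.prime_dvd_prime_iff_eq hq hp.out).1 (hq.dvd_of_dvd_pow hd)))
        have hxQ : x⁻¹ * u ∈ Q := QuotientGroup.eq.1 hx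
        have hxU : x ∈ U := by
          have := mul_mem hu (inv_mem (hQU hxQ))
          rwa [mul_inv_rev, inv_inv, mul_inv_cancel_left] at this
        have hxC : (⟨x, hxU⟩ : U) ∈ (Subgroup.centralizer {(y : G ⧸ M)}).subgroupOf U := by
          rw [Subgroup.mem_subgroupOf, Subgroup.mem_centralizer_iff]
          intro z hz
          rw [Set.mem_singleton_iff.1 hz]
          have e : (y : G ⧸ M) * x * (y : G ⧸ M)⁻¹ = x := hxfix
          exact mul_inv_eq_iff_eq_mul.1 e
        have hq' : (⟨x⁻¹ * u, hQU hxQ⟩ : U) ∈ Q.subgroupOf U := hxQ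
        have := Subgroup.mul_mem_sup hxC hq'
        have e : (⟨x, hxU⟩ : U) * ⟨x⁻¹ * u, hQU hxQ⟩ = ⟨u, hu⟩ :=
          Subtype.ext (mul_inv_cancel_left x u)
        rwa [e] at this
    have hyU : (y : G ⧸ M) ∈ U :=
      FittingCores.centralizer_pCore_le hp.out hcore (Subgroup.mem_centralizer_iff.2 hcl)
    obtain ⟨j, hj⟩ := IsPGroup.iff_orderOf.1 hUp ⟨_, hyU⟩
    rw [Subgroup.orderOf_mk, Subgroup.orderOf_coe, hy] at hj
    exact hqp ((Nat.prime_dvd_prime_iff_eq hq hp.out).1 (hq.dvd_of_dvd_pow (dvd_of_eq hj)))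
  have hle : φ.ker ≤ U := FittingCores.le_pCore (MonoidHom.normal_ker φ) hker
  refine Nat.le_succ_of_le ?_
  calc Nat.card ((G ⧸ M) ⧸ U) = U.index := rfl
    _ ≤ φ.ker.index := Nat.le_of_dvd (Nat.pos_of_ne_zero Subgroup.index_ne_zero_of_finite)
        (Subgroup.index_dvd_of_le hle)
    _ ≤ Nat.card (Equiv.Perm Ub) := by
        rw [Subgroup.index_ker]
        exact Subgroup.card_le_card_group _
    _ = (Nat.card Ub).factorial := Nat.card_perm
    _ ≤ _ := Nat.factorial_le hcard

end Cfsg.Agent.FewFixed
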